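import Groth.Agent.MTSub.Basic
import Groth.Agent.MTBridge.MonoNhd
import Groth.Agent.MTBridge.CentralFibres
import Groth.Agent.MTBridge.ExtCentral
import Groth.Agent.S2982
import Groth.Agent.MultT.AlgFP
import Groth.Prelude.Def_AlgGrp

/-!
# Kernels of homomorphisms of groups of multiplicative type
-/

set_option autoImplicit false
set_option linter.style.haveILetI false
set_option backward.isDefEq.respectTransparency false
set_option maxHeartbeats 1000000
set_option synthInstance.maxHeartbeats 400000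

universe u

noncomputable section

open CategoryTheory Limits MonoidalCategory CartesianMonoidalCategory MonObj GrpObj AlgebraicGeometry WithConv
open scoped CategoryTheory.Obj

namespace Groth.Agent.MTKernel

open Groth.Agent.MTBridge

variable {S : Scheme.{u}}

/-- The kernel of a homomorphism to a separated group over any base. -/
theorem exists_kernel {G Q : Over S} [GrpObj G] [GrpObj Q] (q : G ⟶ Q) [IsMonHom q] [IsSeparated Q.hom] :
    ∃ (N : Over S) (_ : GrpObj N) (i : N ⟶ G), IsMonHom i ∧ IsClosedImmersion i.left ∧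
      AlgGrp.IsNormalHom i ∧ AlgGrp.IsKernel i q := by
  have hη : (η[Q] : 𝟙_ _ ⟶ Q).left ≫ Q.hom = 𝟙 _ := Over.w (η[Q])
  haveI : IsClosedImmersion ((η[Q] : 𝟙_ _ ⟶ Q).left ≫ Q.hom) := by rw [hη]; infer_instance
  haveI : IsClosedImmersion (η[Q] : 𝟙_ _ ⟶ Q).left := IsClosedImmersion.of_comp _ Q.hom
  let N : Over S := Over.mk (pullback.fst q.left η[Q].left ≫ G.hom)
  let i : N ⟶ G := Over.homMk (pullback.fst q.left η[Q].left)
  haveI : IsClosedImmersion i.left := inferInstanceAs (IsClosedImmersion (pullback.fst q.left η[Q].left))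
  haveI : Mono i.left := inferInstance
  haveI : Mono i := Over.mono_of_mono_left i
  have hmem : ∀ (T : Over S) (g : T ⟶ G), (∃ z : T ⟶ N, z ≫ i = g) ↔ g ≫ q = 1 := by
    intro T g
    constructor
    · rintro ⟨z, rfl⟩
      rw [Hom.one_def, Category.assoc, ← toUnit_unique (z ≫ toUnit N) (toUnit T), Category.assoc]
      congr 1
      ext1
      rw [Over.comp_left, Over.comp_left, Over.toUnit_left]
      change pullback.fst q.left η[Q].left ≫ q.left = (pullback.fst q.left η[Q].left ≫ G.hom) ≫ η[Q].left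
      rw [pullback.condition]
      congr 1
      have h := Over.w q
      have hη := Over.w η[Q]
      rw [← h, ← Category.assoc, pullback.condition, Category.assoc, hη]
      exact (Category.comp_id _).symm
    · intro hg
      rw [Hom.one_def] at hg
      have h := congrArg CommaMorphism.left hg
      refine ⟨Over.homMk (pullback.lift g.left (toUnit T).left h) ?_, ?_⟩
      · change pullback.lift _ _ _ ≫ pullback.fst _ _ ≫ G.hom = _
        rw [pullback.lift_fst_assoc, Over.w g]
      · ext1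
        exact pullback.lift_fst _ _ _
  have hiq : i ≫ q = 1 := (hmem N i).1 ⟨𝟙 _, Category.id_comp _⟩
  obtain ⟨μN, hμ⟩ : ∃ z, z ≫ i = (fst N N ≫ i) * (snd N N ≫ i) := (hmem _ _).2 (by
    rw [MonObj.mul_comp, Category.assoc, Category.assoc, hiq, MonObj.comp_one, MonObj.comp_one, _root_.one_mul])
  obtain ⟨eN, he⟩ := (hmem (𝟙_ _) η[G]).2
    ((IsMonHom.one_hom (f := q)).trans (by rw [Hom.one_def, toUnit_unit, Category.id_comp]))
  obtain ⟨vN, hv⟩ : ∃ z, z ≫ i = i⁻¹ := (hmem _ _).2 (by rw [GrpObj.inv_comp, hiq, inv_one])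
  letI inst : GrpObj N :=
    { one := eN
      mul := μN
      inv := vN
      one_mul := by
        rw [← cancel_mono i, Category.assoc, hμ, MonObj.comp_mul, whiskerRight_fst_assoc, he,
          whiskerRight_snd_assoc, toUnit_unique (fst _ N) (toUnit _), ← Hom.one_def, _root_.one_mul,
          leftUnitor_hom]
      mul_one := by
        rw [← cancel_mono i, Category.assoc, hμ, MonObj.comp_mul, whiskerLeft_fst_assoc,
          whiskerLeft_snd_assoc, he, toUnit_unique (snd N _) (toUnit _), ← Hom.one_def, _root_.mul_one,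
          rightUnitor_hom]
      mul_assoc := by
        rw [← cancel_mono i]
        simp only [Category.assoc, hμ, MonObj.comp_mul, whiskerRight_fst_assoc, whiskerRight_snd_assoc,
          whiskerLeft_fst_assoc, whiskerLeft_snd_assoc, associator_hom_fst_assoc,
          associator_hom_snd_fst_assoc, associator_hom_snd_snd_assoc, _root_.mul_assoc]
      left_inv := by
        rw [← cancel_mono i, Category.assoc, hμ, MonObj.comp_mul, lift_fst_assoc, lift_snd_assoc,
          Category.id_comp, hv, inv_mul_cancel, Category.assoc, he]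
        rfl
      right_inv := by
        rw [← cancel_mono i, Category.assoc, hμ, MonObj.comp_mul, lift_fst_assoc, lift_snd_assoc,
          Category.id_comp, hv, mul_inv_cancel, Category.assoc, he]
        rfl }
  have himon : IsMonHom i := ⟨he, by
    change μN ≫ i = _
    rw [hμ, Hom.mul_def]
    congr 1
    try ext1 <;> simp⟩
  refine ⟨N, inst, i, himon, inferInstance, fun T g n => ?_, ⟨⟨hiq⟩, ⟨PullbackCone.isLimitAux' _ fun s => ?_⟩⟩⟩
  · obtain ⟨n', hn'⟩ := (hmem T (g * (n ≫ i) * g⁻¹)).2 (by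
      rw [MonObj.mul_comp, MonObj.mul_comp, GrpObj.inv_comp, (hmem T (n ≫ i)).1 ⟨n, rfl⟩, _root_.mul_one,
        mul_inv_cancel])
    exact ⟨n', hn'.symm⟩
  · have h1 : s.fst ≫ q = 1 := by
      rw [s.condition, toUnit_unique s.snd (toUnit _)]
      rfl
    exact ⟨((hmem _ _).2 h1).choose, ((hmem _ _).2 h1).choose_spec, toUnit_unique _ _,
      fun {m} hm _ => (cancel_mono i).1 (hm.trans ((hmem _ _).2 h1).choose_spec.symm)⟩

/-- Points of the kernel. -/
theorem exists_lift_iff {K G H : Over S} [GrpObj H] {k : K ⟶ G} {u : G ⟶ H} (hk : AlgGrp.IsKernel k u)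
    {X : Over S} (x : X ⟶ G) : (∃ z : X ⟶ K, z ≫ k = x) ↔ x ≫ u = 1 := by
  constructor
  · rintro ⟨z, rfl⟩
    rw [Category.assoc, hk.w, ← Category.assoc, toUnit_unique (z ≫ toUnit K) (toUnit X), ← Hom.one_def]
  · intro h
    exact ⟨hk.lift x (toUnit X) (h.trans Hom.one_def), hk.lift_fst _ _ _⟩

theorem toBC_one {U : Scheme.{u}} (j : U ⟶ S) {X : Over U} {G : Over S} [GrpObj G] :
    toBC j (1 : (Over.map j).obj X ⟶ G) = 1 := by
  have h := toBC_mul j (1 : (Over.map j).obj X ⟶ G) 1
  rw [_root_.one_mul] at h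
  exact mul_eq_left.1 h.symm

/-- Kernels of base changes. -/
theorem exists_lift_bc_iff {U : Scheme.{u}} (j : U ⟶ S) {K G H : Over S} [GrpObj H] {k : K ⟶ G} {u : G ⟶ H}
    (hk : AlgGrp.IsKernel k u) {X : Over U} (x : X ⟶ Red.bc j G) :
    (∃ z : X ⟶ Red.bc j K, z ≫ (Over.pullback j).map k = x) ↔ x ≫ (Over.pullback j).map u = 1 := by
  obtain ⟨a, rfl⟩ := exists_toBC' j x
  rw [← toBC_comp, ← toBC_one j]
  constructor
  · rintro ⟨z, hz⟩
    obtain ⟨z, rfl⟩ := exists_toBC' j z
    rw [← toBC_comp] at hz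
    exact congrArg _ ((exists_lift_iff hk a).1 ⟨z, toBC_inj j hz⟩)
  · intro h
    obtain ⟨z, hz⟩ := (exists_lift_iff hk a).2 (toBC_inj j h)
    exact ⟨toBC j z, by rw [← toBC_comp, hz]⟩

/-- A point is killed by a homomorphism of affine groups iff its kernel ideal vanishes at it. -/
theorem pt_comp_eq_one_iff {R A B T : Type u} [CommRing R] [CommRing A] [HopfAlgebra R A] [CommRing B]
    [HopfAlgebra R B] [CommRing T] [Algebra R T] (v : (specGrp R A).X ⟶ (specGrp R B).X) (g : B →ₐc[R] A)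
    (hg : v.left = Spec.map (CommRingCat.ofHom (g : B →ₐ[R] A).toRingHom)) (φ : WithConv (A →ₐ[R] T)) :
    pt φ ≫ v = 1 ↔ Ideal.map g (RingHom.ker (Bialgebra.counitAlgHom R B)) ≤ RingHom.ker φ.ofConv := by
  have h1 : pt φ ≫ v = pt (toConv (φ.ofConv.comp (g : B →ₐ[R] A))) := by
    apply Over.OverMorphism.ext
    rw [Over.comp_left, pt_left, pt_left, hg, ← Spec.map_comp, ← CommRingCat.ofHom_comp]
    rfl
  rw [h1, show (1 : (Spec (CommRingCat.of T)).asOver (Spec (CommRingCat.of R)) ⟶ (specGrp R B).X) =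
    pt (1 : WithConv (B →ₐ[R] T)) from (map_one Spec.mapMulEquiv).symm]
  rw [show (pt (toConv (φ.ofConv.comp (g : B →ₐ[R] A))) = pt (1 : WithConv (B →ₐ[R] T))) ↔
      toConv (φ.ofConv.comp (g : B →ₐ[R] A)) = 1 from Spec.mapMulEquiv.injective.eq_iff]
  constructor
  · intro h
    rw [Ideal.map_le_iff_le_comap]
    intro b hb
    have h2 := congrArg (fun ψ : WithConv (B →ₐ[R] T) => ψ.ofConv b) h
    simp only [AlgHom.convOne_apply] at h2
    rw [RingHom.mem_ker] at hb
    rw [Ideal.mem_comap, RingHom.mem_ker]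
    refine h2.trans ?_
    rw [show Coalgebra.counit (R := R) b = 0 from hb, map_zero]
  · intro h
    refine WithConv.ofConv_injective (AlgHom.ext fun b => ?_)
    rw [AlgHom.convOne_apply]
    have hb : b - algebraMap R B (Coalgebra.counit (R := R) b) ∈ RingHom.ker (Bialgebra.counitAlgHom R B) := by
      simp [RingHom.mem_ker]
    have h3 := h (Ideal.mem_map_of_mem _ hb)
    rw [RingHom.mem_ker, map_sub, map_sub, sub_eq_zero] at h3
    refine h3.trans ?_
    rw [AlgHomClass.commutes, AlgHom.commutes]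

/-- The kernel over an affine base. -/
theorem isMultTypeFT_affine {R : Type u} [CommRing R] {G H K : Over (Spec (CommRingCat.of R))} [GrpObj G]
    [GrpObj H] [GrpObj K] (hG : SGA3x.IsMultTypeFT G) (hH : SGA3x.IsMultTypeFT H) (k : K ⟶ G) [IsMonHom k]
    [IsClosedImmersion k.left] (u : G ⟶ H) [IsMonHom u]
    (hk : ∀ (X : Over (Spec (CommRingCat.of R))) (x : X ⟶ G), (∃ z : X ⟶ K, z ≫ k = x) ↔ x ≫ u = 1) :
    SGA3x.IsMultTypeFT K := by
  obtain ⟨A, _, _, hA, hft, ⟨eA⟩⟩ := exists_hopf G hG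
  obtain ⟨B, _, _, hB, hBft, ⟨eB⟩⟩ := exists_hopf H hH
  haveI := MTBridge.isAffineHom G hG
  haveI : IsAffine G.left := isAffine_of_isAffineHom G.hom
  haveI : IsAffine K.left := isAffine_of_isAffineHom k.left
  obtain ⟨C, _, eC, heC⟩ := Groth.Agent.FinHopf.exists_hopf (R := CommRingCat.of R) K
  haveI := heC
  haveI : IsIso eC.hom.left := inferInstanceAs (IsIso ((Over.forget _).map eC.hom))
  haveI : IsIso eA.hom.hom.hom.left := inferInstanceAs (IsIso ((Over.forget _).map ((Grp.forget _).map eA.hom)))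
  let a : G ≅ (specGrp R A).X := (Grp.forget _).mapIso eA
  let b : H ≅ (specGrp R B).X := (Grp.forget _).mapIso eB
  haveI : IsMonHom a.hom := eA.hom.hom.isMonHom_hom
  haveI : IsMonHom a.inv := eA.inv.hom.isMonHom_hom
  haveI : IsMonHom b.hom := eB.hom.hom.isMonHom_hom
  let v : (specGrp R A).X ⟶ (specGrp R B).X := a.inv ≫ u ≫ b.hom
  haveI : IsMonHom v := by dsimp [v]; infer_instance
  obtain ⟨g, hg⟩ := exists_bialgHom v
  let w : (specGrp R C).X ⟶ (specGrp R A).X := eC.hom ≫ k ≫ a.hom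
  haveI : IsMonHom w := by dsimp [w]; infer_instance
  obtain ⟨f, hf⟩ := exists_bialgHom w
  haveI : IsClosedImmersion w.left := by
    show IsClosedImmersion (eC.hom.left ≫ k.left ≫ eA.hom.hom.hom.left)
    infer_instance
  have hsurj : Function.Surjective f := by
    let φ : CommRingCat.of A ⟶ CommRingCat.of C := CommRingCat.ofHom (f : A →ₐ[R] C).toRingHom
    haveI : IsClosedImmersion (Spec.map φ) := hf ▸ ‹IsClosedImmersion w.left›
    have h := (IsClosedImmersion.isAffine_surjective_of_isAffine (Spec.map φ)).2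
    intro c
    obtain ⟨z, hz⟩ := h ((Scheme.ΓSpecIso _).inv c)
    refine ⟨(Scheme.ΓSpecIso (CommRingCat.of A)).hom z, ?_⟩
    show φ ((Scheme.ΓSpecIso _).hom z) = c
    rw [← CommRingCat.comp_apply, ← Scheme.ΓSpecIso_naturality, CommRingCat.comp_apply, hz,
      Iso.inv_hom_id_apply]
  let J : Ideal A := Ideal.map g (RingHom.ker (Bialgebra.counitAlgHom R B))
  have hw : w ≫ v = 1 := by
    have h1 : (eC.hom ≫ k) ≫ u = 1 := (hk _ _).1 ⟨eC.hom, rfl⟩
    simp only [w, v, Category.assoc, a.hom_inv_id_assoc]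
    rw [← Category.assoc k, ← Category.assoc eC.hom, ← Category.assoc eC.hom k u, h1, MonObj.one_comp]
  have hpt : pt (toConv (f : A →ₐ[R] C)) = w := Over.OverMorphism.ext ((pt_left _).trans hf.symm)
  have hker : RingHom.ker (f : A →ₐ[R] C) = J := by
    refine le_antisymm ?_ ((pt_comp_eq_one_iff v g hg (toConv (f : A →ₐ[R] C))).1 (by rw [hpt, hw]))
    let π : WithConv (A →ₐ[R] A ⧸ J) := toConv (Ideal.Quotient.mkₐ R J)
    have hπ : pt π ≫ v = 1 := (pt_comp_eq_one_iff v g hg π).2 (le_of_eq (Ideal.Quotient.mkₐ_ker R J).symm)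
    have h2 : (pt π ≫ a.inv) ≫ u = 1 := by
      rw [← cancel_mono b.hom, MonObj.one_comp, Category.assoc, Category.assoc]
      exact hπ
    obtain ⟨z, hz⟩ := (hk _ _).2 h2
    obtain ⟨ψ, hψ⟩ : ∃ ψ : WithConv (C →ₐ[R] A ⧸ J), pt ψ = z ≫ eC.inv :=
      ⟨_, Spec.mapMulEquiv.apply_symm_apply (z ≫ eC.inv)⟩
    have h3 : pt ψ ≫ w = pt π := by
      rw [hψ]
      simp only [w, Category.assoc, eC.inv_hom_id_assoc]
      rw [← Category.assoc z, hz, Category.assoc, a.inv_hom_id, Category.comp_id]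
    have h4 : pt (toConv (ψ.ofConv.comp (f : A →ₐ[R] C))) = pt π := by
      rw [← h3]
      apply Over.OverMorphism.ext
      rw [Over.comp_left, pt_left, pt_left, hf, ← Spec.map_comp, ← CommRingCat.ofHom_comp]
      rfl
    have h5 := Spec.mapMulEquiv.injective h4
    intro x hx
    rw [← Ideal.Quotient.eq_zero_iff_mem]
    have h6 := congrArg (fun ψ : WithConv (A →ₐ[R] A ⧸ J) => ψ.ofConv x) h5
    simp only [AlgHom.comp_apply, π] at h6
    rw [show (f : A →ₐ[R] C) x = 0 from hx, map_zero] at h6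
    exact h6.symm
  obtain ⟨hK, ⟨e⟩⟩ := Groth.Agent.MultT.exists_quot_equiv f hsurj
  haveI := hK
  haveI := hBft
  have hC : SGA3b.IsMultType R C := Groth.Agent.MultT.isMultType_of_equiv e.symm
    (S2982.result R A hft hA B (Groth.Agent.MultT.finitePresentation_algebra hB) g _ hker)
  haveI : Algebra.FiniteType R C := Algebra.FiniteType.of_surjective (f : A →ₐ[R] C) hsurj
  obtain ⟨S', p, hp, hps, hl, hloc⟩ := isMultTypeFT_specGrp hC
  refine ⟨S', p, hp, hps, hl, fun s' => ?_⟩
  obtain ⟨U, hU, M, hM, hMfg, ⟨d⟩⟩ := hloc s'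
  exact ⟨U, hU, M, hM, hMfg, ⟨bcMapIso _ (Grp.mkIso' eC).symm ≪≫ d⟩⟩

/-- **Kernels of homomorphisms of groups of multiplicative type are of multiplicative type.** -/
theorem exists_kernel_mt {G H : Over S} [GrpObj G] [GrpObj H] (hG : SGA3x.IsMultTypeFT G)
    (hH : SGA3x.IsMultTypeFT H) (u : G ⟶ H) [IsMonHom u] :
    ∃ (K : Over S) (_ : GrpObj K) (k : K ⟶ G), IsMonHom k ∧ IsClosedImmersion k.left ∧
      AlgGrp.IsKernel k u ∧ SGA3x.IsMultTypeFT K := by
  haveI := MTBridge.isAffineHom H hH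
  obtain ⟨K, iK, k, hk1, hk2, -, hk⟩ := exists_kernel u
  refine ⟨K, iK, k, hk1, hk2, hk, MTSub.isMultTypeFT_of_cover K fun V => ?_⟩
  let j := V.2.fromSpec
  haveI : IsClosedImmersion ((Over.pullback j).map k).left := by
    have h1 : ((Over.pullback j).map k).left ≫ pullback.fst G.hom j = pullback.fst K.hom j ≫ k.left :=
      pullback.lift_fst _ _ _
    refine MorphismProperty.of_isPullback (P := @IsClosedImmersion) (f := pullback.fst G.hom j)
      (f' := pullback.fst K.hom j) ?_ hk2
    refine IsPullback.of_bot ?_ h1.symm (IsPullback.of_hasPullback G.hom j)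
    rw [show ((Over.pullback j).map k).left ≫ pullback.snd G.hom j = pullback.snd K.hom j from
      pullback.lift_snd _ _ _, Over.w k]
    exact IsPullback.of_hasPullback K.hom j
  exact isMultTypeFT_affine (isMultTypeFT_bc G j hG) (isMultTypeFT_bc H j hH) ((Over.pullback j).map k)
    ((Over.pullback j).map u) (fun X x => exists_lift_bc_iff j hk x)

end Groth.Agent.MTKernel
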